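import Mathlib
import Cfsg.Agent.TECH.GC.Low
import Cfsg.Agent.TECH.GC.Two
import Cfsg.Agent.INV.Blk.BlkB
import Cfsg.Agent.CLAS.WrO1

/-!
A normal subgroup `N` with Sylow subgroup `B = A A'` of type `L₃(q)` or `Sp₄(q)` in a group of
characteristic `2` type: no involution outside `B` normalizes `B`.
-/

set_option autoImplicit false
set_option linter.unusedSectionVars false
open Cfsg Subgroup CL.MSS CL.AB
open scoped commutatorElement

namespace CL.GC

variable {G : Type*} [Group G] [Finite G]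

/-- the hypotheses -/
structure Kl (N B A A' D D' : Subgroup G) : Prop where
  pair : Pair B A A'
  nN : N.Normal
  syl : SylIn 2 B N
  chp : ∀ U : Subgroup G, IsPGroup 2 U → U ≠ ⊥ → ChP 2 (normalizer (U : Set G))
  st : ∀ v ∈ A ⊓ A', v ∉ D → normalizer (A : Set G) ⊓ centralizer {v} ≤ normalizer (B : Set G)
  st' : ∀ v ∈ A ⊓ A', v ∉ D' → normalizer (A' : Set G) ⊓ centralizer {v} ≤ normalizer (B : Set G)
  cm : ∀ a ∈ A, a ∉ A' → ∀ b ∈ A', b ∉ A → ⁅a, b⁆ ∉ D ∧ ⁅a, b⁆ ∉ D'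
  sw : ∀ s ∈ normalizer (B : Set G), s ∉ normalizer (A : Set G) → ∀ v ∈ A ⊓ A', s * v * s⁻¹ = v →
    v ∈ D ∨ v ∈ D' → v = 1
  mv : ∀ a ∈ A, a ∉ A' → ∃ l ∈ N ⊓ normalizer (A : Set G), l * a * l⁻¹ ∈ A' ∧ l * a * l⁻¹ ∉ D
  mv' : ∀ a ∈ A', a ∉ A → ∃ l ∈ N ⊓ normalizer (A' : Set G), l * a * l⁻¹ ∈ A ∧ l * a * l⁻¹ ∉ D'
  fx : ∀ t ∈ normalizer (B : Set G), t ∈ normalizer (A : Set G) → t * t = 1 → t ∉ B →
    (∃ a ∈ A, a ∉ A' ∧ Commute a t) ∧ ∃ a ∈ A', a ∉ A ∧ Commute a t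

namespace Kl
variable {N B A A' D D' : Subgroup G} (k : Kl N B A A' D D') {t : G}
include k

theorem symm : Kl N B A' A D' D :=
  ⟨k.pair.symm, k.nN, k.syl, k.chp, fun v hv => k.st' v hv.symm, fun v hv => k.st v hv.symm,
    fun a ha a1 b hb b1 => by
      rw [← commutatorElement_inv, inv_mem_iff, inv_mem_iff]; exact (k.cm b hb b1 a ha a1).symm,
    fun s hs c v hv e d => k.sw s hs (mt (Blk2.norm_right k.pair hs) c) v hv.symm e d.symm, k.mv', k.mv,
    fun t ht c e d => (k.fx t ht (Blk2.norm_right k.pair.symm ht c) e d).symm⟩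

theorem nrm (X : Subgroup G) : X ≤ normalizer (N : Set G) :=
  have := k.nN
  le_top.trans (normalizer_eq_top _).ge

theorem chX (h1 : t * t = 1) (h2 : t ≠ 1) : ChP 2 (centralizer {t} ⊓ N) :=
  (chp_inv k.chp h1 h2).of_normal inf_le_left (le_normalizer_inf le_normalizer (k.nrm _))

theorem memB (h1 : t * t = 1) (h2 : t ∈ N) (h3 : t ∈ normalizer (B : Set G)) : t ∈ B :=
  k.syl.le_of_normalizes (isPGroup_zpowers (k := 1) (by rw [pow_one, sq, h1])) (zpowers_le.2 h2)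
    (zpowers_le.2 h3) (mem_zpowers t)

theorem cen {v : G} (hv : v ∈ A ⊓ A') (h1 : v ∉ D) (h2 : v ∉ D') :
    centralizer {v} ⊓ N ≤ normalizer (B : Set G) :=
  (k.pair.le_normalizer_or_of_chp (k.syl.of_le (le_inf (k.pair.le_centralizer_of_mem hv) k.syl.le)
    inf_le_right) (k.chX (ea_sq k.pair.eA hv.1) fun e => h1 (e ▸ one_mem D))).elim
    (fun e => (le_inf e inf_le_left).trans (k.st v hv h1)) fun e => (le_inf e inf_le_left).trans (k.st' v hv h2)

theorem sylX (ht : t * t = 1) {w : G} (hw : w ∈ A ⊓ A') (h1 : w ∉ D) (h2 : w ∉ D')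
    (h : ∀ g, t ∈ normalizer ((g •ᶜ B : Subgroup G) : Set G) → B ⊓ centralizer {t} ≤ g •ᶜ B →
      w ∈ g •ᶜ A ⊓ g •ᶜ A') : SylIn 2 (B ⊓ centralizer {t}) (centralizer {t} ⊓ N) := by
  refine ⟨le_inf inf_le_right (inf_le_left.trans k.syl.le), k.syl.pgroup.to_inf_left,
    fun Q hQ q1 q2 => le_antisymm (le_inf ?_ (q2.trans inf_le_left)) q1⟩
  obtain ⟨S, hS, s1⟩ := exists_sylIn_ge k.syl.pgroup (le_top (a := B))
  have e := k.syl.max _ hS.pgroup.to_inf_left (le_inf s1 k.syl.le) inf_le_right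
  obtain ⟨g, -, s2⟩ := hS.exists_le_conj (isPGroup_sup_of_normalizes' hQ
    (isPGroup_zpowers (k := 1) (by rw [pow_one, sq, ht])) ((le_centralizer_symm ((q2.trans inf_le_left).trans
      (centralizer_zpowers t).ge)).trans (centralizer_le_normalizer _))) le_top
  have := k.nN
  have e2 : g •ᶜ S ⊓ N = g •ᶜ B := by rw [← e, cj_inf, cj_eq_of_normal g N]
  have s3 : Q ≤ g •ᶜ B := (le_inf (le_sup_left.trans s2) (q2.trans inf_le_right)).trans e2.le
  refine s3.trans (k.syl.le_of_normalizes (isPGroup_cj g k.syl.pgroup) (e2.ge.trans inf_le_right)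
    ((le_inf ((k.pair.cj g).le_centralizer_of_mem (h g ?_ (q1.trans s3))) (e2.ge.trans inf_le_right)).trans
      (k.cen hw h1 h2)))
  exact e2 ▸ le_normalizer_inf le_normalizer (k.nrm _) (s2 (mem_sup_right (mem_zpowers t)))

theorem coreF (hn : t ∈ normalizer (B : Set G)) (hA : t ∈ normalizer (A : Set G)) (ht : t * t = 1)
    (hB : t ∉ B) : pCoreOf 2 (centralizer {t} ⊓ N) ≤ B := by
  obtain ⟨⟨a, ha, a1, a2⟩, b, hb, b1, b2⟩ := k.fx t hn hA ht hB
  exact (oP_le_sylIn (k.sylX ht (k.pair.comm_mem ha hb) (k.cm a ha a1 b hb b1).1 (k.cm a ha a1 b hb b1).2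
    fun g _ e => (k.pair.cj g).comm_mem_S (e ⟨k.pair.leA ha, mem_centralizer_singleton_iff.2 a2⟩)
      (e ⟨k.pair.leB hb, mem_centralizer_singleton_iff.2 b2⟩))).trans inf_le_left

theorem coreA (hn : t ∈ normalizer (B : Set G)) (hA : t ∈ normalizer (A : Set G)) (ht : t * t = 1)
    (hB : t ∉ B) : pCoreOf 2 (centralizer {t} ⊓ N) ≤ A := fun r hr => by
  obtain ⟨⟨a, ha, a1, a2⟩, -⟩ := k.fx t hn hA ht hB
  obtain ⟨l, hl, l1, l2⟩ := k.mv a ha a1
  have := k.nN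
  have m : l * a * l⁻¹ ∈ A ⊓ A' := ⟨(mem_normalizer_iff.1 hl.2 a).1 ha, l1⟩
  have h1 : l * t * l⁻¹ ∈ normalizer (A : Set G) :=
    mul_mem (mul_mem (mem_inf.1 hl).2 hA) (inv_mem (mem_inf.1 hl).2)
  have h2 := k.coreF (k.st _ m l2 ⟨h1, mem_centralizer_singleton_iff.2 (by rw [conj_mul, conj_mul, a2.eq])⟩)
    h1 (by rw [conj_mul, ht]; group) fun e => hB (k.memB ht (by
      simpa [mul_assoc] using this.conj_mem _ (k.syl.le e) l⁻¹) hn)
  rw [← cj_centralizer_singleton, ← cj_eq_of_normal l N, ← cj_inf, ← oP_cj] at h2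
  have := (k.pair.commute_inf m (h2 (conj_mem_cj hr))).eq
  rw [conj_mul, conj_mul, mul_left_inj, mul_right_inj] at this
  exact k.pair.mem_of_commute ha a1 (k.coreF hn hA ht hB hr) this

theorem noF (hn : t ∈ normalizer (B : Set G)) (ht : t * t = 1) (hB : t ∉ B) :
    t ∉ normalizer (A : Set G) := fun hA => by
  obtain ⟨⟨a, ha, a1, a2⟩, -⟩ := k.fx t hn hA ht hB
  exact a1 (k.symm.coreA hn (Blk2.norm_right k.pair hn hA) ht hB (k.chX ht (fun e => hB (e ▸ one_mem B))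
    ⟨⟨mem_centralizer_singleton_iff.2 a2, k.syl.le (k.pair.leA ha)⟩,
      centralizer_le (k.coreA hn hA ht hB) (ea_le_centralizer k.pair.eA ha)⟩))

theorem memZ (hn : t ∈ normalizer (B : Set G)) (ht : t * t = 1) (hB : t ∉ B) {v : G} (hv : v ∈ B)
    (h1 : v * v = 1) (h2 : t * v * t⁻¹ = v) : v ∈ A ⊓ A' := by
  obtain ⟨e1, e2⟩ := (Blk2.norm_or_swap k.pair hn).resolve_left fun c => k.noF hn ht hB c.1
  exact (k.pair.inv v hv h1).elim (fun e => ⟨e, e1 ▸ h2 ▸ conj_mem_cj e⟩)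
    fun e => ⟨e2 ▸ h2 ▸ conj_mem_cj e, e⟩

theorem invZ (hn : t ∈ normalizer (B : Set G)) (ht : t * t = 1) (hB : t ∉ B) {v : G} (hv : v ∈ N)
    (h1 : v * v = 1) (h2 : Commute v t) : v ∈ A ⊓ A' := by
  have pt := isPGroup_zpowers (p := 2) (k := 1) (x := t) (by rw [pow_one, sq, ht])
  have sZ := fun v hv => k.memZ hn ht hB (v := v) hv
  obtain ⟨e1, e2⟩ := (Blk2.norm_or_swap k.pair hn).resolve_left fun c => k.noF hn ht hB c.1
  obtain ⟨w, ⟨hw, w1⟩, w2⟩ := (bot_or_exists_ne_one _).resolve_left (inf_centralizer_ne_bot pt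
    ((ea_pgroup k.pair.eA).to_le inf_le_left) (zpowers_le.2 (mem_normalizer_iff_cj.2 (by
      rw [cj_inf, e1, e2, inf_comm]))) k.pair.inf_ne_bot)
  replace w1 : t * w * t⁻¹ = w := mul_inv_eq_of_eq_mul (w1 t (mem_zpowers t))
  have w3 := not_or.1 (mt (k.sw t hn (k.noF hn ht hB) w hw w1) w2)
  have s := k.sylX ht hw w3.1 w3.2 fun g g1 g2 => by
    have := k.nN
    rw [← cj_inf, mem_cj]
    rw [← cj_normalizer, mem_cj] at g1
    refine k.memZ g1 (by simp [mul_assoc, ← mul_assoc t, ht]) (fun e => hB (k.memB ht ?_ hn))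
      (mem_cj.1 (g2 ⟨k.pair.leA hw.1, mem_centralizer_singleton_iff.2 (mul_inv_eq_iff_eq_mul.1 w1).symm⟩))
      (by simp [mul_assoc, ← mul_assoc w, ea_sq k.pair.eA hw.1]) (by conv_rhs => rw [← w1]
                                                                     group)
    simpa [mul_assoc] using this.conj_mem _ (k.syl.le e) g
  have m : v ∈ centralizer {t} ⊓ N := ⟨mem_centralizer_singleton_iff.2 h2, hv⟩
  obtain ⟨x, hx, e⟩ := s.exists_conj_le (isPGroup_zpowers (k := 1) (by rw [pow_one, sq, h1])) (zpowers_le.2 m)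
  have e := e (conj_mem_cj (mem_zpowers v))
  have o := oP_le_sylIn s
  have j := k.chX ht (fun e => hB (e ▸ one_mem B)) ⟨s.le e, centralizer_le (o.trans inf_le_left)
    (le_centralizer_symm k.pair.le_centralizer_inf (sZ _ e.1 (by rw [conj_mul, h1]; group)
      (mul_inv_eq_of_eq_mul (mem_centralizer_singleton_iff.1 e.2).symm)))⟩
  exact sZ v (o ((mem_normalizer_iff.1 (oP_normal _ hx) v).2 j)).1 h1 (mul_inv_eq_of_eq_mul h2.eq.symm)

theorem elim (hn : t ∈ normalizer (B : Set G)) (ht : t * t = 1) : t ∈ B := by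
  by_contra hB
  have := k.nN
  have tN : t ∉ N := fun e => hB (k.memB ht e hn)
  obtain ⟨a, ha, a1⟩ := SetLike.not_le_iff_exists.1 k.pair.nle
  obtain ⟨b, hb, b1⟩ := SetLike.not_le_iff_exists.1 k.pair.nle'
  obtain ⟨l, hl, l1, -⟩ := k.mv a ha a1
  have u1 : l⁻¹ * b * l ∈ N := by simpa using this.conj_mem _ (k.syl.le (k.pair.leB hb)) l⁻¹
  have u2 : l⁻¹ * b * l * (l⁻¹ * b * l) = 1 := by simp [mul_assoc, ← mul_assoc b, ea_sq k.pair.eB hb]
  have u3 : l⁻¹ * b * l ∉ B := fun e => b1 (by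
    have := k.pair.mem_of_commute ha a1 e (by
      have := (ea_comm k.pair.eB l1 hb).eq
      calc a * (l⁻¹ * b * l) = l⁻¹ * (l * a * l⁻¹ * b) * l := by group
        _ = _ := by rw [this]; group)
    simpa [mul_assoc] using (mem_normalizer_iff.1 hl.2 _).1 this)
  generalize l⁻¹ * b * l = u at u1 u2 u3
  obtain ⟨d, -, e⟩ | ⟨w, hw, w1, w2, w3, -⟩ := WrO.dihedral ht u2
  · exact tN (by simpa [← e, mul_assoc] using this.conj_mem _ u1 d⁻¹)
  have w4 : w * w = 1 := by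
    obtain ⟨n, rfl⟩ := hw
    have e := mul_inv_eq_of_eq_mul w2.eq.symm
    rw [← conj_zpow, show t * (t * u) * t⁻¹ = (t * u)⁻¹ by
      rw [← mul_assoc, ht, one_mul, mul_inv_rev, inv_eq_of_mul_eq_one_right u2], inv_zpow] at e
    exact mul_eq_one_iff_inv_eq.2 e
  by_cases c : w ∈ N
  · have m := k.invZ hn ht hB c w4 w2
    have j := not_or.1 (mt (k.sw t hn (k.noF hn ht hB) w m (mul_inv_eq_of_eq_mul w2.eq.symm)) w1)
    exact u3 (k.memB u2 u1 (k.cen m j.1 j.2 ⟨mem_centralizer_singleton_iff.2 w3.symm, u1⟩))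
  have m : t * w ∈ N := by
    have j := mem_map_of_mem (QuotientGroup.mk' N) hw
    have i : ∀ {a}, QuotientGroup.mk' N a = 1 ↔ a ∈ N := QuotientGroup.eq_one_iff _
    rw [MonoidHom.map_zpowers, map_mul, i.2 u1, mul_one] at j
    rw [← i, map_mul, (zp_two (by rw [← map_mul, ht, map_one]) j).resolve_left (mt i.1 c), ← map_mul, ht,
      map_one]
  have m := k.invZ hn ht hB m (by rw [mul_assoc, ← mul_assoc w, w2.eq, mul_assoc, w4, mul_one, ht])
    ((Commute.refl t).mul_left w2)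
  exact u3 (k.pair.leA (k.invZ ((mul_mem_cancel_left hn).1 (le_normalizer (k.pair.leA m.1))) w4
    (fun e => c (k.syl.le e)) u1 u2 w3.symm).1)

end Kl

end CL.GC
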